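import Groth.Agent.CohenLib.RegularField
import Groth.Agent.NormalLib.Regular
import Mathlib.AlgebraicGeometry.Birational.RationalMap
import Mathlib.AlgebraicGeometry.ValuativeCriterion
import Mathlib.AlgebraicGeometry.Morphisms.Smooth

/-!
# Local rings of smooth schemes over a field, and extension of maps from smooth curves
-/

set_option autoImplicit false
set_option linter.style.haveILetI false
universe u

open CategoryTheory CategoryTheory.Limits AlgebraicGeometry TopologicalSpace

noncomputable section

namespace RTrivLib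

theorem regular_stalk {k : Type u} [Field k] {Y : Scheme.{u}} (g : Y ⟶ Spec (CommRingCat.of k))
    [Smooth g] (y : Y) : IsRegularLocalRing (Y.presheaf.stalk y) := by
  obtain ⟨U, hU, hy, -⟩ := exists_isAffineOpen_mem_and_subset (x := y) (U := ⊤) trivial
  have hs := g.smooth_appLE (isAffineOpen_top _) hU (le_of_le_of_eq le_top (by simp))
  algebraize [(g.appLE ⊤ U (le_of_le_of_eq le_top (by simp))).hom]
  haveI : IsRegularRing Γ(Spec (CommRingCat.of k), ⊤) :=
    IsRegularRing.of_ringEquiv (Scheme.ΓSpecIso (CommRingCat.of k)).symm.commRingCatIsoToRingEquiv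
  haveI := CohenLib.isRegularRing_of_smooth Γ(Spec (CommRingCat.of k), ⊤) Γ(Y, U)
  let p := (hU.primeIdealOf ⟨y, hy⟩).asIdeal
  letI := Y.presheaf.algebra_section_stalk (⟨y, hy⟩ : U)
  haveI : IsLocalization.AtPrime (Y.presheaf.stalk y) p := hU.isLocalization_stalk ⟨y, hy⟩
  exact IsRegularLocalRing.of_ringEquiv
    (IsLocalization.algEquiv p.primeCompl (Localization.AtPrime p) (Y.presheaf.stalk y)).toRingEquiv

theorem krullDimLE_stalk {Y : Scheme.{u}} (hdim : topologicalKrullDim Y ≤ 1) (y : Y) :
    Ring.KrullDimLE 1 (Y.presheaf.stalk y) := by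
  refine krullDimLE_of_coheight_le ?_
  have h : (Order.coheight y : WithBot ℕ∞) ≤ topologicalKrullDim Y := by
    rw [← Order.coheight_orderIso (irreducibleSetEquivPoints (α := Y)).symm y]
    exact Order.coheight_le_krullDim _
  exact WithBot.coe_le_coe.mp (h.trans hdim)

theorem valuationRing_stalk {k : Type u} [Field k] {Y : Scheme.{u}} [IsIntegral Y]
    (g : Y ⟶ Spec (CommRingCat.of k)) [Smooth g] (hdim : topologicalKrullDim Y ≤ 1) (y : Y) :
    ValuationRing (Y.presheaf.stalk y) := by
  haveI := regular_stalk g y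
  haveI := NormalLib.isIntegrallyClosed_of_isRegularLocalRing (Y.presheaf.stalk y)
  haveI := krullDimLE_stalk hdim y
  haveI : Ring.DimensionLEOne (Y.presheaf.stalk y) :=
    ⟨fun {p} hp hprime => hprime.isMaximal_of_ne_bot hp⟩
  haveI : IsDedekindDomain (Y.presheaf.stalk y) := { }
  haveI : IsPrincipalIdealRing (Y.presheaf.stalk y) := by infer_instance
  infer_instance

/-- A point of the function field of a smooth curve with values in a proper scheme extends. -/
theorem exists_hom_of_functionField {k : Type u} [Field k] {Y Z S : Scheme.{u}} [IsIntegral Y]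
    (g₀ : Y ⟶ Spec (CommRingCat.of k)) [Smooth g₀] (hdim : topologicalKrullDim Y ≤ 1) (q : Y ⟶ S)
    (s : Z ⟶ S) [IsProper s] [S.IsSeparated] (φ : Spec Y.functionField ⟶ Z)
    (hφ : φ ≫ s = Y.fromSpecStalk (genericPoint Y) ≫ q) :
    ∃ F : Y ⟶ Z, F ≫ s = q ∧ Y.fromSpecStalk (genericPoint Y) ≫ F = φ := by
  haveI : Z.IsSeparated := ⟨by
    rw [Limits.terminal.hom_ext (terminal.from Z) (s ≫ terminal.from S)]; infer_instance⟩
  let r : Y ⤏ Z := Scheme.RationalMap.ofFunctionField q s φ hφ
  have hr : r.fromFunctionField = φ := Scheme.RationalMap.fromFunctionField_ofFunctionField q s φ hφ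
  have hdom : r.domain = ⊤ := by
    refine eq_top_iff.mpr fun y _ => ?_
    rw [Scheme.RationalMap.mem_domain]
    have hsp : genericPoint Y ⤳ y := (genericPoint_spec Y).specializes trivial
    let j : Spec Y.functionField ⟶ Spec (Y.presheaf.stalk y) :=
      Spec.map (Y.presheaf.stalkSpecializes hsp)
    have hsq : φ ≫ s = j ≫ (Y.fromSpecStalk y ≫ q) := by
      rw [hφ, ← Category.assoc, Scheme.SpecMap_stalkSpecializes_fromSpecStalk]
    have hj : Spec.map (CommRingCat.ofHom (algebraMap (Y.presheaf.stalk y) Y.functionField)) = j := rfl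
    have hval : ValuativeCriterion.Existence s := by
      have h := (IsProper.eq_valuativeCriterion ▸ ‹IsProper s› :
        (ValuativeCriterion ⊓ @QuasiCompact ⊓ @QuasiSeparated ⊓ @LocallyOfFiniteType) s)
      exact h.1.1.1.existence
    haveI hD : IsDomain (Y.presheaf.stalk y) := inferInstance
    haveI hV : ValuationRing (Y.presheaf.stalk y) := valuationRing_stalk g₀ hdim y
    have hlift := hval
      { R := Y.presheaf.stalk y, commRing := inferInstance, domain := hD, valuationRing := hV,
        K := Y.functionField, i₁ := φ, i₂ := Y.fromSpecStalk y ≫ q,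
        commSq := ⟨hsq.trans (congrArg (fun t => t ≫ (Y.fromSpecStalk y ≫ q)) hj.symm)⟩ }
    obtain ⟨⟨ψ, h1, h2⟩⟩ := hlift.exists_lift
    let g := Scheme.PartialMap.ofFromSpecStalk q s ψ h2
    have hg := Scheme.PartialMap.mem_domain_ofFromSpecStalk q s ψ h2
    refine ⟨g, hg, Scheme.RationalMap.eq_of_fromFunctionField_eq _ _ ?_⟩
    have hηg : genericPoint Y ∈ g.domain :=
      ((genericPoint_spec Y).mem_open_set_iff g.domain.2).mpr ⟨y, trivial, hg⟩
    have h3 : j ≫ g.fromSpecStalkOfMem hg = g.fromSpecStalkOfMem hηg := by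
      change _ ≫ g.domain.fromSpecStalkOfMem y hg ≫ g.hom =
        g.domain.fromSpecStalkOfMem (genericPoint Y) hηg ≫ g.hom
      rw [← Category.assoc]
      congr 1
      rw [← cancel_mono g.domain.ι]
      simp [j]
    rw [hr, Scheme.RationalMap.fromFunctionField_toRationalMap]
    refine h3.symm.trans ?_
    rw [Scheme.PartialMap.fromSpecStalkOfMem_ofFromSpecStalk]
    exact h1
  let g := r.toPartialMap
  have hgdom : g.domain = ⊤ := hdom
  let F : Y ⟶ Z := Y.topIso.inv ≫ (Y.isoOfEq hgdom).inv ≫ g.hom
  have hηg : genericPoint Y ∈ g.domain := by rw [hgdom]; trivial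
  have hF : Y.fromSpecStalk (genericPoint Y) ≫ F = φ := by
    rw [← hr, ← Scheme.RationalMap.toRationalMap_toPartialMap r,
      Scheme.RationalMap.fromFunctionField_toRationalMap]
    change _ ≫ F = g.domain.fromSpecStalkOfMem (genericPoint Y) hηg ≫ g.hom
    rw [← Category.assoc, ← Category.assoc]
    congr 1
    rw [← cancel_mono g.domain.ι]
    simp
  refine ⟨F, ?_, hF⟩
  haveI : IsDominant (Y.fromSpecStalk (genericPoint Y)) := by
    refine (isDominant_iff _).mpr (Dense.mono (s₁ := ({genericPoint Y} : Set Y)) ?_ ?_)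
    · intro z hz
      rw [Set.mem_singleton_iff.mp hz, Y.range_fromSpecStalk]
      exact specializes_rfl
    · rw [dense_iff_closure_eq]
      exact (genericPoint_spec Y).def
  refine ext_of_isDominant (Y.fromSpecStalk (genericPoint Y)) ?_
  rw [← Category.assoc, hF, hφ]

end RTrivLib
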