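import Groth.Agent.RTrivLib.P1
import Groth.Agent.AlgSpLib.ReducedStalk
import Groth.Agent.AnLib.FibBaseChange
import Groth.Agent.RTrivLib.Curve
import Groth.Prelude.Def_W4c5nonratstablectREq
import Mathlib.AlgebraicGeometry.Morphisms.FlatDescent

/-!
# Directly R-linked generic points are identified by homotopy invariant functors
-/

set_option autoImplicit false
set_option linter.style.haveILetI false
universe u v

open CategoryTheory CategoryTheory.Limits AlgebraicGeometry TopologicalSpace REq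

noncomputable section
set_option maxHeartbeats 1000000

namespace RTrivLib

theorem isDominant_of_mem_range {A B : Scheme.{u}} [IrreducibleSpace B] (e : A ⟶ B)
    (h : genericPoint B ∈ Set.range e) : IsDominant e := by
  refine (isDominant_iff _).mpr (Dense.mono (s₁ := ({genericPoint B} : Set B)) ?_ ?_)
  · exact Set.singleton_subset_iff.mpr h
  · rw [dense_iff_closure_eq]
    exact (genericPoint_spec B).def

theorem genericPoint_eq {A B : Scheme.{u}} [IrreducibleSpace A] [IrreducibleSpace B] (e : A ⟶ B)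
    [IsDominant e] : e (genericPoint A) = genericPoint B := by
  refine ((genericPoint_spec A).image e.continuous).eq ?_
  rw [Set.image_univ, e.denseRange.closure_eq]
  exact genericPoint_spec B

section P1K
variable (K : Type u) [Field K]

theorem isIntegral_P1K : IsIntegral (P1K K) := by
  obtain ⟨e⟩ := nonempty_iso 1 K
  haveI := GenusZeroLib.isIntegral_projSpace K 1
  haveI : Nonempty (P1K K) := ⟨e.hom (genericPoint (CohB1.ProjSpace 1 K))⟩
  exact isIntegral_of_isOpenImmersion e.inv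

theorem dim_P1K : topologicalKrullDim ↥(P1K K) ≤ 1 := by
  obtain ⟨e⟩ := nonempty_iso 1 K
  rw [← IsHomeomorph.topologicalKrullDim_eq _ e.hom.homeomorph.isHomeomorph,
    GenusZeroLib.dim_projSpace]
  norm_num

end P1K

variable {k : Type u} [Field k] {X : Scheme.{u}} (f : X ⟶ Spec (CommRingCat.of k))

section Extension
variable [IsProper f] {K : Type u} [Field K] [Algebra k K]

/-- A morphism from a non-empty open of the projective line to a proper scheme extends. -/
theorem exists_extension {U : (P1K K).Opens} (h : (U : Scheme.{u}) ⟶ X)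
    (hh : h ≫ f = U.ι ≫ P1K.toSpec K ≫ specMap k K) (hU : (U : Set (P1K K)).Nonempty) :
    ∃ F : P1K K ⟶ X, F ≫ f = P1K.toSpec K ≫ specMap k K ∧ U.ι ≫ F = h := by
  haveI := isIntegral_P1K K
  haveI := smooth_toBase 1 (Spec (CommRingCat.of K))
  haveI : IsLocallyNoetherian (P1K K) := LocallyOfFiniteType.isLocallyNoetherian (P1K.toSpec K)
  have hξ : genericPoint (P1K K) ∈ U :=
    ((genericPoint_spec (P1K K)).mem_open_set_iff U.isOpen).mpr
      (by obtain ⟨y, hy⟩ := hU; exact ⟨y, trivial, hy⟩)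
  let d := U.fromSpecStalkOfMem (genericPoint (P1K K)) hξ
  obtain ⟨F, hF, hFd⟩ := exists_hom_of_functionField (P1K.toSpec K) (dim_P1K K)
    (P1K.toSpec K ≫ specMap k K) f (d ≫ h)
    (by rw [Category.assoc, hh, Scheme.Opens.fromSpecStalkOfMem_ι_assoc])
  refine ⟨F, hF, ?_⟩
  haveI : Nonempty (U : Scheme.{u}) := ⟨⟨_, hξ⟩⟩
  haveI : IsIntegral (U : Scheme.{u}) := isIntegral_of_isOpenImmersion U.ι
  haveI : IsDominant d := by
    refine isDominant_of_mem_range d ⟨IsLocalRing.closedPoint _, ?_⟩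
    apply U.ι.isOpenEmbedding.injective
    rw [genericPoint_eq_of_isOpenImmersion]
    change (d ≫ U.ι) _ = _
    rw [Scheme.Opens.fromSpecStalkOfMem_ι, Scheme.fromSpecStalk_closedPoint]
  refine ext_of_isDominant_of_isSeparated f (by rw [hh, Category.assoc, hF]) d ?_
  rw [← Category.assoc, Scheme.Opens.fromSpecStalkOfMem_ι]
  exact hFd

end Extension

variable [IsIntegral X]

/-- The generic point of `X` as a point of an open. -/
abbrev gpt (V : X.Opens) (hV : genericPoint X ∈ V) :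
    Spec (CommRingCat.of X.functionField) ⟶ (V : Scheme.{u}) :=
  V.fromSpecStalkOfMem (genericPoint X) hV

theorem gpt_ι (V : X.Opens) (hV : genericPoint X ∈ V) :
    gpt V hV ≫ V.ι = X.fromSpecStalk (genericPoint X) := Scheme.Opens.fromSpecStalkOfMem_ι ..

theorem gpt_homOfLE {W V : X.Opens} (h : W ≤ V) (hW : genericPoint X ∈ W) :
    gpt W hW ≫ X.homOfLE h = gpt V (h hW) := by
  rw [← cancel_mono V.ι, Category.assoc, X.homOfLE_ι, gpt_ι, gpt_ι]

theorem isDominant_gpt (V : X.Opens) (hV : genericPoint X ∈ V) : IsDominant (gpt V hV) := by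
  haveI : Nonempty (V : Scheme.{u}) := ⟨⟨_, hV⟩⟩
  haveI : IsIntegral (V : Scheme.{u}) := isIntegral_of_isOpenImmersion V.ι
  refine isDominant_of_mem_range _ ⟨IsLocalRing.closedPoint _, ?_⟩
  apply V.ι.isOpenEmbedding.injective
  rw [genericPoint_eq_of_isOpenImmersion]
  change (gpt V hV ≫ V.ι) _ = _
  rw [gpt_ι, Scheme.fromSpecStalk_closedPoint]

theorem smooth_homOfLE {W V : X.Opens} (h : W ≤ V) [Smooth (V.ι ≫ f)] : Smooth (W.ι ≫ f) := by
  rw [← X.homOfLE_ι h, Category.assoc]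
  infer_instance

variable (Φ : (Over (Spec (CommRingCat.of k)))ᵒᵖ ⥤ Type v)

/-- Two morphisms `Spec k(X) ⟶ X` spread to morphisms with the same image under `Φ`. -/
def Agree (A B : Spec (CommRingCat.of X.functionField) ⟶ X) : Prop :=
  ∃ (V : X.Opens) (hV : genericPoint X ∈ V) (_ : Smooth (V.ι ≫ f))
    (α β : Over.mk (V.ι ≫ f) ⟶ Over.mk f),
    gpt V hV ≫ α.left = A ∧ gpt V hV ≫ β.left = B ∧ Φ.map α.op = Φ.map β.op

variable [IsProper f]

theorem hom_ext_gpt {V : X.Opens} (hV : genericPoint X ∈ V)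
    (α β : Over.mk (V.ι ≫ f) ⟶ Over.mk f) (h : gpt V hV ≫ α.left = gpt V hV ≫ β.left) : α = β := by
  haveI : Nonempty (V : Scheme.{u}) := ⟨⟨_, hV⟩⟩
  haveI : IsIntegral (V : Scheme.{u}) := isIntegral_of_isOpenImmersion V.ι
  haveI := isDominant_gpt V hV
  let a : (V : Scheme.{u}) ⟶ X := α.left
  let b : (V : Scheme.{u}) ⟶ X := β.left
  have hab : a = b :=
    ext_of_isDominant_of_isSeparated f ((Over.w α).trans (Over.w β).symm) (gpt V hV) h
  exact Over.OverMorphism.ext hab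

/-- Restriction to a smaller open. -/
def res {W V : X.Opens} (h : W ≤ V) : Over.mk (W.ι ≫ f) ⟶ Over.mk (V.ι ≫ f) :=
  Over.homMk (X.homOfLE h) (by simp)

omit [IsProper f] [IsIntegral X] in
theorem res_left {W V : X.Opens} (h : W ≤ V) : (res f h).left = X.homOfLE h := rfl

variable {f Φ}

theorem Agree.symm {A B} (h : Agree f Φ A B) : Agree f Φ B A := by
  obtain ⟨V, hV, hs, α, β, hα, hβ, he⟩ := h
  exact ⟨V, hV, hs, β, α, hβ, hα, he.symm⟩

theorem Agree.trans {A B C} (h : Agree f Φ A B) (h' : Agree f Φ B C) : Agree f Φ A C := by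
  obtain ⟨V, hV, hs, α, β, hα, hβ, he⟩ := h
  obtain ⟨V', hV', hs', α', β', hα', hβ', he'⟩ := h'
  have hW : genericPoint X ∈ V ⊓ V' := ⟨hV, hV'⟩
  let r := res f (inf_le_left : V ⊓ V' ≤ V)
  let r' := res f (inf_le_right : V ⊓ V' ≤ V')
  have e1 : r ≫ β = r' ≫ α' := by
    refine hom_ext_gpt f hW _ _ ?_
    change gpt _ hW ≫ X.homOfLE (inf_le_left : V ⊓ V' ≤ V) ≫ β.left =
      gpt _ hW ≫ X.homOfLE (inf_le_right : V ⊓ V' ≤ V') ≫ α'.left
    rw [← Category.assoc, gpt_homOfLE, ← Category.assoc, gpt_homOfLE]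
    exact hβ.trans hα'.symm
  refine ⟨V ⊓ V', hW, smooth_homOfLE f (inf_le_left : V ⊓ V' ≤ V), r ≫ α, r' ≫ β', ?_, ?_, ?_⟩
  · change gpt _ hW ≫ X.homOfLE (inf_le_left : V ⊓ V' ≤ V) ≫ α.left = A
    rw [← Category.assoc, gpt_homOfLE]; exact hα
  · change gpt _ hW ≫ X.homOfLE (inf_le_right : V ⊓ V' ≤ V') ≫ β'.left = C
    rw [← Category.assoc, gpt_homOfLE]; exact hβ'
  · rw [op_comp, op_comp, Φ.map_comp, Φ.map_comp, he, ← he', ← Φ.map_comp, ← Φ.map_comp,
      ← op_comp, ← op_comp, e1]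

variable (f Φ)

theorem exists_spread {Y : Scheme.{u}} (s : Y ⟶ X) [LocallyOfFiniteType s]
    (φ : Spec (CommRingCat.of X.functionField) ⟶ Y)
    (hφ : φ ≫ s = X.fromSpecStalk (genericPoint X)) :
    ∃ (V : X.Opens) (hV : genericPoint X ∈ V) (σ : (V : Scheme.{u}) ⟶ Y),
      gpt V hV ≫ σ = φ ∧ σ ≫ s = V.ι := by
  obtain ⟨V, hV, σ, h1, h2⟩ := spread_out_of_isGermInjective' (𝟙 X) s φ (by simpa using hφ)
  exact ⟨V, hV, σ, h1.symm, by simpa using h2⟩

variable [Algebra k X.functionField]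

theorem exists_agree_refl
    (hK : X.fromSpecStalk (genericPoint X) ≫ f = specMap k X.functionField)
    {V₀ : X.Opens} (h₀ : genericPoint X ∈ V₀) [Smooth (V₀.ι ≫ f)] (A : Pts f X.functionField) :
    Agree f Φ A.1 A.1 := by
  obtain ⟨V, hV, α, h1, h2⟩ := spread_out_of_isGermInjective' f f A.1 (A.2.trans hK.symm)
  have hW : genericPoint X ∈ V ⊓ V₀ := ⟨hV, h₀⟩
  let α' : Over.mk ((V ⊓ V₀).ι ≫ f) ⟶ Over.mk f :=
    res f (inf_le_left : V ⊓ V₀ ≤ V) ≫ Over.homMk α h2
  refine ⟨V ⊓ V₀, hW, smooth_homOfLE f (inf_le_right : V ⊓ V₀ ≤ V₀), α', α', ?_, ?_, rfl⟩ <;>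
  · change gpt _ hW ≫ X.homOfLE (inf_le_left : V ⊓ V₀ ≤ V) ≫ α = A.1
    rw [← Category.assoc, gpt_homOfLE]
    exact h1.symm

/-- Extending a morphism defined on the generic fibre of `P¹_V ⟶ V`. -/
theorem exists_extend_P1 {V₀ : X.Opens} (h₀ : genericPoint X ∈ V₀) [Smooth (V₀.ι ≫ f)]
    (hK : X.fromSpecStalk (genericPoint X) ≫ f = specMap k X.functionField)
    (F : P1K X.functionField ⟶ X) (hF : F ≫ f = P1K.toSpec X.functionField ≫ specMap k X.functionField) :
    ∃ g : (CohB1.ProjSpaceOver 1 (V₀ : Scheme.{u})).PartialMap X,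
      g.hom ≫ f = g.domain.ι ≫ CohB1.ProjSpaceOver.toBase 1 _ ≫ V₀.ι ≫ f ∧
      (∀ y : P1K X.functionField, AmpleLib.poMap 1 (gpt V₀ h₀) y ∈ g.domain) ∧
      ∀ {T : Scheme.{u}} (l : T ⟶ (g.domain : Scheme.{u})) (m : T ⟶ P1K X.functionField),
        l ≫ g.domain.ι = m ≫ AmpleLib.poMap 1 (gpt V₀ h₀) → l ≫ g.hom = m ≫ F := by
  let K := X.functionField
  let e₀ := gpt V₀ h₀
  let P := CohB1.ProjSpaceOver 1 (V₀ : Scheme.{u})
  let p : P ⟶ V₀ := CohB1.ProjSpaceOver.toBase 1 _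
  let π : P1K K ⟶ P := AmpleLib.poMap 1 e₀
  have hpb : IsPullback π (P1K.toSpec K) p e₀ := AmpleLib.isPullback_poMap 1 e₀
  haveI : Nonempty (V₀ : Scheme.{u}) := ⟨⟨_, h₀⟩⟩
  haveI : IsIntegral (V₀ : Scheme.{u}) := isIntegral_of_isOpenImmersion V₀.ι
  haveI : IsPreimmersion e₀ := by
    haveI : IsPreimmersion (e₀ ≫ V₀.ι) := by rw [gpt_ι]; infer_instance
    exact IsPreimmersion.of_comp e₀ V₀.ι
  haveI : Flat e₀ := by
    haveI : Flat (e₀ ≫ V₀.ι) := by rw [gpt_ι]; exact AlgSpLib.flat_fromSpecStalk _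
    have : IsPullback (𝟙 _) e₀ (e₀ ≫ V₀.ι) V₀.ι :=
      IsPullback.of_horiz_isIso_mono ⟨by simp⟩
    exact MorphismProperty.of_isPullback this inferInstance
  haveI : IsPreimmersion π := MorphismProperty.of_isPullback hpb.flip inferInstance
  haveI : Flat π := MorphismProperty.of_isPullback hpb.flip inferInstance
  haveI : Smooth p := smooth_toBase 1 _
  haveI := isIntegral_P1K K
  have hξ : π (genericPoint (P1K K)) ⤳ π (genericPoint (P1K K)) := specializes_rfl
  haveI : IsDominant π := by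
    refine (isDominant_iff _).mpr ?_
    rw [DenseRange, dense_iff_inter_open]
    intro W hW hWne
    have ho : IsOpen (p '' W) := p.isOpenMap W hW
    obtain ⟨w, hw, hwe⟩ : genericPoint (V₀ : Scheme.{u}) ∈ p '' W :=
      ((genericPoint_spec _).mem_open_set_iff ho).mpr (by simpa using hWne.image p)
    refine ⟨w, hw, ?_⟩
    rw [AnLib.range_eq_preimage_of_isPullback hpb.flip, Set.mem_preimage, hwe]
    refine ⟨IsLocalRing.closedPoint _, ?_⟩
    apply V₀.ι.isOpenEmbedding.injective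
    rw [genericPoint_eq_of_isOpenImmersion]
    change (e₀ ≫ V₀.ι) _ = _
    rw [gpt_ι, Scheme.fromSpecStalk_closedPoint]
  haveI : IsReduced P := by
    haveI : ∀ y : P, _root_.IsReduced (P.presheaf.stalk y) := fun y => by
      haveI := regular_stalk (p ≫ V₀.ι ≫ f) y
      haveI := CommAlgDim.isDomain_of_isRegularLocalRing (P.presheaf.stalk y)
      infer_instance
    exact isReduced_of_isReduced_stalk P
  haveI : IrreducibleSpace P := by
    rw [irreducibleSpace_def]
    have h := (IrreducibleSpace.isIrreducible_univ (P1K K)).image π π.continuous.continuousOn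
    have hd : closure (π '' Set.univ) = Set.univ := by
      rw [Set.image_univ, ← dense_iff_closure_eq]; exact π.denseRange
    have h2 : IsIrreducible (Set.univ : Set P) := hd ▸ h.closure
    exact h2
  haveI : IsIntegral P := isIntegral_of_irreducibleSpace_of_isReduced P
  -- the germ at each point of the generic fibre
  let q : P ⟶ Spec (CommRingCat.of k) := p ≫ V₀.ι ≫ f
  have hπq : π ≫ q = F ≫ f := by
    rw [hF]
    change π ≫ p ≫ V₀.ι ≫ f = _
    rw [← Category.assoc, hpb.w, Category.assoc, ← Category.assoc e₀, gpt_ι, hK]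
  have hloc : ∀ y : P1K K, ∃ g : P.PartialMap X, π y ∈ g.domain ∧
      g.hom ≫ f = g.domain.ι ≫ q ∧
      ∀ {T : Scheme.{u}} (l : T ⟶ (g.domain : Scheme.{u})) (m : T ⟶ P1K K),
        l ≫ g.domain.ι = m ≫ π → l ≫ g.hom = m ≫ F := by
    intro y
    have hbij : Function.Bijective (π.stalkMap y).hom := by
      refine ⟨?_, π.stalkMap_surjective y⟩
      algebraize [(π.stalkMap y).hom]
      have : Module.FaithfullyFlat (P.presheaf.stalk (π y)) ((P1K K).presheaf.stalk y) :=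
        @Module.FaithfullyFlat.of_flat_of_isLocalHom _ _ _ _ _ _ _
          (Flat.stalkMap π y) (π.toLRSHom.prop y)
      exact ‹RingHom.FaithfullyFlat _›.injective
    haveI : IsIso (π.stalkMap y) := (ConcreteCategory.isIso_iff_bijective _).mpr hbij
    let ψ : Spec (P.presheaf.stalk (π y)) ⟶ X :=
      Spec.map (inv (π.stalkMap y)) ≫ (P1K K).fromSpecStalk y ≫ F
    have hψ : ψ ≫ f = P.fromSpecStalk (π y) ≫ q := by
      rw [← cancel_epi (Spec.map (π.stalkMap y)), Scheme.SpecMap_stalkMap_fromSpecStalk_assoc, hπq]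
      simp [ψ, ← Spec.map_comp_assoc]
    obtain ⟨D, hD, hom, h1, h2⟩ := spread_out_of_isGermInjective' q f ψ hψ
    refine ⟨⟨D, D.2.dense ⟨_, hD⟩, hom⟩, hD, h2, ?_⟩
    intro T l m hlm
    let D' : (P1K K).Opens := π ⁻¹ᵁ D
    have hr : Set.range m ⊆ Set.range D'.ι := by
      rintro _ ⟨t, rfl⟩
      rw [Scheme.Opens.range_ι]
      change π (m t) ∈ D
      rw [← Scheme.Hom.comp_apply, ← hlm]
      exact (l t).2
    let m' := IsOpenImmersion.lift D'.ι m hr
    have hm' : m' ≫ D'.ι = m := IsOpenImmersion.lift_fac ..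
    let π' : (D' : Scheme.{u}) ⟶ D := π ∣_ D
    have hl : l = m' ≫ π' := by
      rw [← cancel_mono D.ι, hlm, Category.assoc, morphismRestrict_ι, ← Category.assoc, hm']
    have key : π' ≫ hom = D'.ι ≫ F := by
      have hy : y ∈ D' := hD
      haveI : Nonempty (D' : Scheme.{u}) := ⟨⟨y, hy⟩⟩
      haveI : IsIntegral (D' : Scheme.{u}) := isIntegral_of_isOpenImmersion D'.ι
      let d := D'.fromSpecStalkOfMem y hy
      have hd : d ≫ π' = Spec.map (π.stalkMap y) ≫ D.fromSpecStalkOfMem (π y) hD := by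
        rw [← cancel_mono D.ι, Category.assoc, morphismRestrict_ι, ← Category.assoc]
        simp [d, D']
      haveI : IsDominant d := by
        refine isDominant_of_mem_range d ?_
        have hs : genericPoint (P1K K) ⤳ y := (genericPoint_spec _).specializes trivial
        obtain ⟨z, hz⟩ : genericPoint (P1K K) ∈ Set.range (d ≫ D'.ι) := by
          rw [Scheme.Opens.fromSpecStalkOfMem_ι, Scheme.range_fromSpecStalk]; exact hs
        refine ⟨z, D'.ι.isOpenEmbedding.injective ?_⟩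
        rw [genericPoint_eq_of_isOpenImmersion]
        exact hz
      refine ext_of_isDominant_of_isSeparated f ?_ d ?_
      · rw [Category.assoc, h2, ← Category.assoc, morphismRestrict_ι, Category.assoc, hπq,
          Category.assoc]
      · rw [← Category.assoc, hd, Category.assoc, ← h1, ← Category.assoc d,
          Scheme.Opens.fromSpecStalkOfMem_ι]
        simp [ψ]
    change l ≫ hom = m ≫ F
    rw [hl, Category.assoc, key, ← Category.assoc, hm']
  -- all germs give the same rational map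
  obtain ⟨g₁, hg₁, hg₁f, hg₁F⟩ := hloc (genericPoint (P1K K))
  let r : P ⤏ X := g₁.toRationalMap
  have heq : ∀ (g g' : P.PartialMap X),
      g.hom ≫ f = g.domain.ι ≫ q → g'.hom ≫ f = g'.domain.ι ≫ q →
      (∀ {T : Scheme.{u}} (l : T ⟶ (g.domain : Scheme.{u})) (m : T ⟶ P1K K),
        l ≫ g.domain.ι = m ≫ π → l ≫ g.hom = m ≫ F) →
      (∀ {T : Scheme.{u}} (l : T ⟶ (g'.domain : Scheme.{u})) (m : T ⟶ P1K K),
        l ≫ g'.domain.ι = m ≫ π → l ≫ g'.hom = m ≫ F) →
      g.toRationalMap = g'.toRationalMap := by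
    intro g g' hgf hg'f hgF hg'F
    let W := g.domain ⊓ g'.domain
    have hW : Dense (W : Set P) := g.dense_domain.inter_of_isOpen_left g'.dense_domain g.domain.2
    rw [Scheme.PartialMap.toRationalMap_eq_iff]
    refine ⟨W, hW, inf_le_left, inf_le_right, ?_⟩
    change P.homOfLE _ ≫ g.hom = P.homOfLE _ ≫ g'.hom
    haveI : Nonempty (W : Scheme.{u}) := by
      obtain ⟨w, hw⟩ := hW.nonempty; exact ⟨⟨w, hw⟩⟩
    haveI : IsIntegral (W : Scheme.{u}) := isIntegral_of_isOpenImmersion W.ι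
    haveI : IsDominant (π ∣_ W) := by
      have hgen : π (genericPoint (P1K K)) = genericPoint P :=
        genericPoint_eq π
      have hgW : genericPoint P ∈ W :=
        ((genericPoint_spec P).mem_open_set_iff W.2).mpr (by simpa using hW.nonempty)
      have hmemW : genericPoint (P1K K) ∈ π ⁻¹ᵁ W := by
        change π _ ∈ W
        rw [hgen]; exact hgW
      refine isDominant_of_mem_range _ ⟨⟨genericPoint (P1K K), hmemW⟩, ?_⟩
      apply W.ι.isOpenEmbedding.injective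
      refine Eq.trans ?_ (genericPoint_eq_of_isOpenImmersion W.ι).symm
      change ((π ∣_ W) ≫ W.ι) _ = _
      rw [morphismRestrict_ι]
      exact hgen
    refine ext_of_isDominant_of_isSeparated f ?_ (π ∣_ W) ?_
    · rw [Category.assoc, hgf, Category.assoc, hg'f, P.homOfLE_ι_assoc, P.homOfLE_ι_assoc]
    · rw [← Category.assoc, ← Category.assoc,
        hgF ((π ∣_ W) ≫ P.homOfLE inf_le_left) (π ⁻¹ᵁ W).ι
          (by rw [Category.assoc, P.homOfLE_ι, morphismRestrict_ι]),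
        hg'F ((π ∣_ W) ≫ P.homOfLE inf_le_right) (π ⁻¹ᵁ W).ι
          (by rw [Category.assoc, P.homOfLE_ι, morphismRestrict_ι])]
  haveI : X.IsSeparated := ⟨by
    rw [Limits.terminal.hom_ext (terminal.from X) (f ≫ terminal.from _)]; infer_instance⟩
  let G := r.toPartialMap
  have hGr : G.toRationalMap = g₁.toRationalMap := Scheme.RationalMap.toRationalMap_toPartialMap r
  have hmem : ∀ y : P1K K, π y ∈ G.domain := by
    intro y
    obtain ⟨g, hg, hgf, hgF⟩ := hloc y
    exact Scheme.RationalMap.mem_domain.mpr ⟨g, hg, (heq g g₁ hgf hg₁f hgF hg₁F)⟩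
  obtain ⟨W, hW, hWl, hWr, hWe⟩ := Scheme.PartialMap.toRationalMap_eq_iff.mp hGr
  replace hWe : P.homOfLE hWl ≫ G.hom = P.homOfLE hWr ≫ g₁.hom := hWe
  haveI : Nonempty (W : Scheme.{u}) := by
    obtain ⟨w, hw⟩ := hW.nonempty; exact ⟨⟨w, hw⟩⟩
  haveI : Nonempty (G.domain : Scheme.{u}) := ⟨⟨_, hmem (genericPoint _)⟩⟩
  haveI : IsIntegral (G.domain : Scheme.{u}) := isIntegral_of_isOpenImmersion G.domain.ι
  have hGf : G.hom ≫ f = G.domain.ι ≫ q := by
    haveI : IsDominant (P.homOfLE hWl) := by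
      haveI : IsIntegral (W : Scheme.{u}) := isIntegral_of_isOpenImmersion W.ι
      refine isDominant_of_mem_range _ ⟨genericPoint (W : Scheme.{u}), ?_⟩
      exact genericPoint_eq_of_isOpenImmersion _
    refine ext_of_isDominant (P.homOfLE hWl) ?_
    rw [← Category.assoc, hWe, Category.assoc, hg₁f, P.homOfLE_ι_assoc, P.homOfLE_ι_assoc]
  refine ⟨G, hGf, hmem, fun {T} l m hlm => ?_⟩
  have hr : Set.range π ⊆ Set.range G.domain.ι := by
    rintro _ ⟨y, rfl⟩; rw [Scheme.Opens.range_ι]; exact hmem y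
  let π' := IsOpenImmersion.lift G.domain.ι π hr
  have hπ' : π' ≫ G.domain.ι = π := IsOpenImmersion.lift_fac ..
  have key : π' ≫ G.hom = F := by
    let W' := π ⁻¹ᵁ W
    haveI : Nonempty (W' : Scheme.{u}) := by
      have hgW : genericPoint P ∈ W :=
        ((genericPoint_spec P).mem_open_set_iff W.2).mpr (by simpa using hW.nonempty)
      exact ⟨⟨genericPoint (P1K K), by
        change π _ ∈ W
        rwa [genericPoint_eq π]⟩⟩
    haveI : IsDominant W'.ι := by
      haveI : IsIntegral (W' : Scheme.{u}) := isIntegral_of_isOpenImmersion W'.ι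
      exact isDominant_of_mem_range _ ⟨genericPoint _, genericPoint_eq_of_isOpenImmersion W'.ι⟩
    refine ext_of_isDominant_of_isSeparated f ?_ W'.ι ?_
    · rw [Category.assoc, hGf, ← Category.assoc, hπ', hπq]
    · have h1 : W'.ι ≫ π' = (π ∣_ W) ≫ P.homOfLE hWl := by
        rw [← cancel_mono G.domain.ι, Category.assoc, hπ', Category.assoc, P.homOfLE_ι,
          morphismRestrict_ι]
      rw [← Category.assoc, h1, Category.assoc, hWe, ← Category.assoc]
      exact hg₁F _ _ (by rw [Category.assoc, P.homOfLE_ι, morphismRestrict_ι])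
  have : l = m ≫ π' := by rw [← cancel_mono G.domain.ι, hlm, Category.assoc, hπ']
  rw [this, Category.assoc, key]

theorem agree_of_elemLink
    (hΦ : ∀ (Y : Scheme.{u}) (g : Y ⟶ Spec (CommRingCat.of k)) [IsIntegral Y] [Smooth g]
      [IsSeparated g] [QuasiCompact g],
      Function.Bijective (Φ.map (Over.homMk (CohB1.ProjSpaceOver.toBase 1 Y) rfl :
        Over.mk (CohB1.ProjSpaceOver.toBase 1 Y ≫ g) ⟶ Over.mk g).op))
    (hK : X.fromSpecStalk (genericPoint X) ≫ f = specMap k X.functionField)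
    {V₀ : X.Opens} (h₀ : genericPoint X ∈ V₀) [Smooth (V₀.ι ≫ f)]
    {A B : Pts f X.functionField} (h : ElemLink f X.functionField A B) : Agree f Φ A.1 B.1 := by
  obtain ⟨U, h, a, b, hh, ha, hb, hA, hB⟩ := h
  let K := X.functionField
  obtain ⟨F, hF, hFh⟩ := exists_extension f h hh ⟨_, (a (IsLocalRing.closedPoint K)).2⟩
  obtain ⟨G, hGf, hmem, hGF⟩ := exists_extend_P1 f h₀ hK F hF
  let P := CohB1.ProjSpaceOver 1 (V₀ : Scheme.{u})
  let p : P ⟶ V₀ := CohB1.ProjSpaceOver.toBase 1 _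
  haveI : IsProper p := ChowLib.isProper_toBase 1 _
  let e₀ := gpt V₀ h₀
  let W : V₀.toScheme.Opens :=
    ⟨(p '' (G.domain : Set P)ᶜ)ᶜ, (p.isClosedMap _ G.domain.2.isClosed_compl).isOpen_compl⟩
  have hηW : e₀ (IsLocalRing.closedPoint _) ∈ W := by
    rintro ⟨w, hw, hwe⟩
    apply hw
    obtain ⟨y, rfl⟩ : w ∈ Set.range (AmpleLib.poMap 1 e₀) := by
      rw [AnLib.range_eq_preimage_of_isPullback (AmpleLib.isPullback_poMap 1 e₀).flip]
      exact ⟨_, hwe.symm⟩
    exact hmem y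
  let V₁ : X.Opens := V₀.ι ''ᵁ W
  have hV₁ : genericPoint X ∈ V₁ := by
    refine ⟨_, hηW, ?_⟩
    change (e₀ ≫ V₀.ι) _ = _
    rw [gpt_ι, Scheme.fromSpecStalk_closedPoint]
  -- spreading the two rational points
  haveI : LocallyOfFiniteType (CohB1.ProjSpaceOver.toBase 1 X) := by
    haveI := ChowLib.isProper_toBase 1 X; infer_instance
  let a' : Spec (CommRingCat.of K) ⟶ P1K K := a ≫ U.ι
  let b' : Spec (CommRingCat.of K) ⟶ P1K K := b ≫ U.ι
  have ha' : a' ≫ P1K.toSpec K = 𝟙 _ := by rw [Category.assoc, ha]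
  have hb' : b' ≫ P1K.toSpec K = 𝟙 _ := by rw [Category.assoc, hb]
  let πX := AmpleLib.poMap 1 (X.fromSpecStalk (genericPoint X))
  have hsec : ∀ c : Spec (CommRingCat.of K) ⟶ P1K K, c ≫ P1K.toSpec K = 𝟙 _ →
      (c ≫ πX) ≫ CohB1.ProjSpaceOver.toBase 1 X = X.fromSpecStalk (genericPoint X) := fun c hc => by
    rw [Category.assoc, AmpleLib.poMap_toBase, ← Category.assoc]
    exact (congrArg (· ≫ X.fromSpecStalk (genericPoint X)) hc).trans (Category.id_comp _)
  obtain ⟨Ua, hUa, σa, hσa, hσa'⟩ := exists_spread _ _ (hsec a' ha')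
  obtain ⟨Ub, hUb, σb, hσb, hσb'⟩ := exists_spread _ _ (hsec b' hb')
  let V₂ : X.Opens := V₁ ⊓ (Ua ⊓ Ub)
  have hV₂ : genericPoint X ∈ V₂ := ⟨hV₁, hUa, hUb⟩
  have hle₁ : V₂ ≤ V₁ := inf_le_left
  have hle : V₂ ≤ V₀ := hle₁.trans (V₀.ι_image_le W)
  haveI hsm : Smooth (V₂.ι ≫ f) := smooth_homOfLE f hle
  let j := X.homOfLE hle
  let t := AmpleLib.poMap 1 j
  have hrange : Set.range t ⊆ Set.range G.domain.ι := by
    rintro _ ⟨z, rfl⟩
    rw [Scheme.Opens.range_ι]
    by_contra hz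
    set x := CohB1.ProjSpaceOver.toBase 1 (V₂ : Scheme.{u}) z with hx
    have hpx : p (t z) = j x := by
      rw [hx, ← Scheme.Hom.comp_apply, ← Scheme.Hom.comp_apply, AmpleLib.poMap_toBase]
    obtain ⟨w, hw, hwx⟩ := hle₁ x.2
    have hjx : j x = w := V₀.ι.isOpenEmbedding.injective (by
      rw [← Scheme.Hom.comp_apply, X.homOfLE_ι]; exact hwx.symm)
    exact hw ⟨t z, hz, hpx.trans hjx⟩
  let l := IsOpenImmersion.lift G.domain.ι t hrange
  have hl : l ≫ G.domain.ι = t := IsOpenImmersion.lift_fac ..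
  let e₂ := gpt V₂ hV₂
  let π₂ := AmpleLib.poMap 1 e₂
  let H := l ≫ G.hom
  have hHf : H ≫ f = CohB1.ProjSpaceOver.toBase 1 (V₂ : Scheme.{u}) ≫ V₂.ι ≫ f := by
    rw [Category.assoc, hGf, ← Category.assoc, hl, ← Category.assoc, AmpleLib.poMap_toBase,
      Category.assoc, X.homOfLE_ι_assoc]
  have hπH : π₂ ≫ H = F := by
    have := hGF (π₂ ≫ l) (𝟙 _) (by
      rw [Category.assoc, hl, Category.id_comp]
      refine ChowLib.po_ext ?_ ?_
      · rw [Category.assoc, AmpleLib.poMap_toPZ, AmpleLib.poMap_toPZ, AmpleLib.poMap_toPZ]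
      · rw [Category.assoc, AmpleLib.poMap_toBase, AmpleLib.poMap_toBase_assoc,
          AmpleLib.poMap_toBase, gpt_homOfLE])
    rwa [Category.id_comp, Category.assoc] at this
  -- the two sections
  have hlift : ∀ (c : Spec (CommRingCat.of K) ⟶ P1K K) (_ : c ≫ P1K.toSpec K = 𝟙 _)
      (Uc : X.Opens) (hUc : genericPoint X ∈ Uc) (σc : (Uc : Scheme.{u}) ⟶ CohB1.ProjSpaceOver 1 X),
      gpt Uc hUc ≫ σc = c ≫ πX → σc ≫ CohB1.ProjSpaceOver.toBase 1 X = Uc.ι → V₂ ≤ Uc →
      ∃ σ : (V₂ : Scheme.{u}) ⟶ CohB1.ProjSpaceOver 1 (V₂ : Scheme.{u}),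
        σ ≫ CohB1.ProjSpaceOver.toBase 1 (V₂ : Scheme.{u}) = 𝟙 _ ∧ e₂ ≫ σ = c ≫ π₂ := by
    intro c hc Uc hUc σc h1 h2 hle'
    let hpb := AmpleLib.isPullback_poMap 1 V₂.ι
    refine ⟨hpb.lift (X.homOfLE hle' ≫ σc) (𝟙 _) (by
      rw [Category.assoc, h2, X.homOfLE_ι, Category.id_comp]), hpb.lift_snd .., ?_⟩
    refine hpb.hom_ext ?_ ?_
    · rw [Category.assoc, hpb.lift_fst, ← Category.assoc, gpt_homOfLE, h1, Category.assoc]
      congr 1
      refine ChowLib.po_ext ?_ ?_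
      · simp only [Category.assoc, AmpleLib.poMap_toPZ, πX, π₂]
        rfl
      · simp only [Category.assoc, AmpleLib.poMap_toBase, AmpleLib.poMap_toBase_assoc, πX, π₂]
        rw [gpt_ι]
        rfl
    · rw [Category.assoc, hpb.lift_snd, Category.comp_id, Category.assoc, AmpleLib.poMap_toBase,
        ← Category.assoc, hc, Category.id_comp]
  obtain ⟨sa, hsa, hsae⟩ := hlift a' ha' Ua hUa σa hσa hσa' (inf_le_right.trans inf_le_left)
  obtain ⟨sb, hsb, hsbe⟩ := hlift b' hb' Ub hUb σb hσb hσb' (inf_le_right.trans inf_le_right)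
  let g₂ : (V₂ : Scheme.{u}) ⟶ Spec (CommRingCat.of k) := V₂.ι ≫ f
  let p₂ : Over.mk (CohB1.ProjSpaceOver.toBase 1 (V₂ : Scheme.{u}) ≫ g₂) ⟶ Over.mk g₂ :=
    Over.homMk (CohB1.ProjSpaceOver.toBase 1 (V₂ : Scheme.{u})) rfl
  let Sa : Over.mk g₂ ⟶ Over.mk (CohB1.ProjSpaceOver.toBase 1 (V₂ : Scheme.{u}) ≫ g₂) :=
    Over.homMk sa (by change sa ≫ _ ≫ g₂ = g₂; rw [← Category.assoc, hsa, Category.id_comp])
  let Sb : Over.mk g₂ ⟶ Over.mk (CohB1.ProjSpaceOver.toBase 1 (V₂ : Scheme.{u}) ≫ g₂) :=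
    Over.homMk sb (by change sb ≫ _ ≫ g₂ = g₂; rw [← Category.assoc, hsb, Category.id_comp])
  let HO : Over.mk (CohB1.ProjSpaceOver.toBase 1 (V₂ : Scheme.{u}) ≫ g₂) ⟶ Over.mk f :=
    Over.homMk H hHf
  haveI : Nonempty (V₂ : Scheme.{u}) := ⟨⟨_, hV₂⟩⟩
  haveI : IsIntegral (V₂ : Scheme.{u}) := isIntegral_of_isOpenImmersion V₂.ι
  haveI : IsLocallyNoetherian X := LocallyOfFiniteType.isLocallyNoetherian f
  haveI : Smooth g₂ := hsm
  haveI : IsIso (Φ.map p₂.op) := (isIso_iff_bijective _).mpr (hΦ _ g₂)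
  have hS : Φ.map Sa.op = Φ.map Sb.op := by
    have h1 : Sa ≫ p₂ = 𝟙 _ := Over.OverMorphism.ext hsa
    have h2 : Sb ≫ p₂ = 𝟙 _ := Over.OverMorphism.ext hsb
    rw [← cancel_epi (Φ.map p₂.op), ← Φ.map_comp, ← Φ.map_comp, ← op_comp, ← op_comp, h1, h2]
  refine ⟨V₂, hV₂, hsm, Sa ≫ HO, Sb ≫ HO, ?_, ?_, ?_⟩
  · change e₂ ≫ sa ≫ H = A.1
    rw [← Category.assoc, hsae, Category.assoc, hπH, Category.assoc, hFh]
    exact hA
  · change e₂ ≫ sb ≫ H = B.1
    rw [← Category.assoc, hsbe, Category.assoc, hπH, Category.assoc, hFh]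
    exact hB
  · rw [op_comp, op_comp, Φ.map_comp, Φ.map_comp, hS]

theorem agree_of_rEquiv
    (hΦ : ∀ (Y : Scheme.{u}) (g : Y ⟶ Spec (CommRingCat.of k)) [IsIntegral Y] [Smooth g]
      [IsSeparated g] [QuasiCompact g],
      Function.Bijective (Φ.map (Over.homMk (CohB1.ProjSpaceOver.toBase 1 Y) rfl :
        Over.mk (CohB1.ProjSpaceOver.toBase 1 Y ≫ g) ⟶ Over.mk g).op))
    (hK : X.fromSpecStalk (genericPoint X) ≫ f = specMap k X.functionField)
    {V₀ : X.Opens} (h₀ : genericPoint X ∈ V₀) [Smooth (V₀.ι ≫ f)]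
    {A B : Pts f X.functionField} (h : REquiv f X.functionField A B) : Agree f Φ A.1 B.1 := by
  induction h with
  | rel A B h => exact agree_of_elemLink f Φ hΦ hK h₀ h
  | refl A => exact exists_agree_refl f Φ hK h₀ A
  | symm A B _ ih => exact ih.symm
  | trans A B C _ _ ih1 ih2 => exact ih1.trans ih2

end RTrivLib
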